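import Cfsg.Agent.Lib.Helper6.TC13
import Cfsg.Agent.Lib.Helper6.TCD.Fi23a.Par
import Cfsg.Agent.Lib.Helper6.TCD.Fi23aL.QX
import Cfsg.Agent.Lib.Helper6.TCD.Fi23aL.QZ
set_option autoImplicit false
set_option maxRecDepth 1000000
set_option Elab.async false
open Cfsg.Agent.Lib.Helper6.TC
namespace Cfsg.Agent.Lib.Helper6.TCD.Fi23aL
open Cfsg.Agent.Lib.Helper6.TCD.Fi23a
noncomputable def XW (p : Nat) : Nat := P9 (P8 (P3 (P5 (P1 (P2 (P4 (P0 (P5 (P6 (P4 (P7 (P8 p))))))))))))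
noncomputable def XP (p : Nat) : Nat := QX (QX (QX (QX (QX (QX (QX (QX (QX (QX (QX (QX (QX (QX (QX (QX (QX p))))))))))))))))
noncomputable def ZW (p : Nat) : Nat := P3 (P4 (P9 (QX (P9 (P4 (P3 (QX p)))))))
noncomputable def WR (p : Nat) : Nat := P1 (P2 (P3 (P4 (P5 (P6 (P7 (P8 (P3 (P4 (P5 (QZ (QZ (QZ (QZ (QZ (QZ (QZ (QZ (QZ (P5 (P4 (P3 (P8 (P7 (P6 (P5 (P4 (P3 (P2 (P1 (p)))))))))))))))))))))))))))))))
end Cfsg.Agent.Lib.Helper6.TCD.Fi23aL
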