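import Cfsg.Agent.Lib.Helper6.TCD.Fi23aL.NCa0
import Cfsg.Agent.Lib.Helper6.TCD.Fi23aL.NCa1
import Cfsg.Agent.Lib.Helper6.TCD.Fi23aL.NCb0
import Cfsg.Agent.Lib.Helper6.TCD.Fi23aL.NCb1
import Cfsg.Agent.Lib.Helper6.TCD.Fi23aL.NCb2
import Cfsg.Agent.Lib.Helper6.TCD.Fi23aL.NCc0
import Cfsg.Agent.Lib.Helper6.TCD.Fi23aL.NCc1
import Cfsg.Agent.Lib.Helper6.TCD.Fi23aL.NCd0
import Cfsg.Agent.Lib.Helper6.TCD.Fi23aL.NCd1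
import Cfsg.Agent.Lib.Helper6.TCD.Fi23aL.NCd2
import Cfsg.Agent.Lib.Helper6.TCD.Fi23aL.NCd3
import Cfsg.Agent.Lib.Helper6.TCD.Fi23aL.NCd4
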